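import Groth.Agent.GrpScheme.Rosenlicht.Field
import Mathlib.RingTheory.Jacobson.Ring
import Mathlib.LinearAlgebra.TensorProduct.Basis
import Mathlib.RingTheory.TensorProduct.Basic

/-!
# Units of a tensor product of affine domains over an algebraically closed field
-/

set_option autoImplicit false

universe u

open scoped TensorProduct

namespace Groth.Agent.GrpScheme.Rosenlicht

variable {k : Type u} [Field k]

/-- The value at a point. -/
noncomputable def evalAt {B : Type u} [CommRing B] [Algebra k B] (M : Type u) [AddCommGroup M]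
    [Module k M] (χ : B →ₐ[k] k) : M ⊗[k] B →ₗ[k] M :=
  (TensorProduct.rid k M).toLinearMap ∘ₗ LinearMap.lTensor M χ.toLinearMap

@[simp]
lemma evalAt_tmul {B : Type u} [CommRing B] [Algebra k B] (M : Type u) [AddCommGroup M]
    [Module k M] (χ : B →ₐ[k] k) (m : M) (b : B) : evalAt M χ (m ⊗ₜ b) = χ b • m := by
  simp [evalAt]

variable [IsAlgClosed k] {B : Type u} [CommRing B] [Algebra k B] [Algebra.FiniteType k B]

/-- An element vanishing at every point of a reduced affine algebra is zero. -/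
lemma eq_zero_of_forall_eval [IsReduced B] {b : B} (h : ∀ χ : B →ₐ[k] k, χ b = 0) : b = 0 := by
  have : IsJacobsonRing B := isJacobsonRing_of_finiteType (A := k)
  have hrad : b ∈ (⊥ : Ideal B).jacobson := by
    rw [Ideal.jacobson, Ideal.mem_sInf]
    rintro J ⟨-, hJ⟩
    let : Field (B ⧸ J) := Ideal.Quotient.field J
    have : Module.Finite k (B ⧸ J) := finite_of_finite_type_of_isJacobsonRing k (B ⧸ J)
    have hb := IsAlgClosed.algebraMap_bijective_of_isIntegral (k := k) (K := B ⧸ J)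
    let e := AlgEquiv.ofBijective (Algebra.ofId k (B ⧸ J)) hb
    have h' := h (e.symm.toAlgHom.comp (Ideal.Quotient.mkₐ k J))
    rw [AlgHom.comp_apply] at h'
    exact Ideal.Quotient.eq_zero_iff_mem.1 (e.symm.injective (h'.trans (map_zero _).symm))
  have hb0 : (⊥ : Ideal B).IsRadical := fun x ⟨n, hn⟩ =>
    Ideal.mem_bot.2 (IsReduced.eq_zero x ⟨n, Ideal.mem_bot.1 hn⟩)
  rwa [IsJacobsonRing.out ‹_› hb0, Ideal.mem_bot] at hrad

/-- A tensor vanishing at every point is zero. -/
lemma eq_zero_of_forall_evalAt [IsReduced B] {M : Type u} [AddCommGroup M] [Module k M]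
    {G : M ⊗[k] B} (h : ∀ χ : B →ₐ[k] k, evalAt M χ G = 0) : G = 0 := by
  classical
  let bM := Module.Free.chooseBasis k M
  obtain ⟨c, rfl⟩ : ∃ c : Module.Free.ChooseBasisIndex k M →₀ B,
      G = c.sum fun i b => bM i ⊗ₜ[k] b :=
    ⟨TensorProduct.equivFinsuppOfBasisLeft bM G, by
      conv_lhs => rw [← (TensorProduct.equivFinsuppOfBasisLeft bM).symm_apply_apply G]
      exact TensorProduct.equivFinsuppOfBasisLeft_symm_apply _ _⟩
  suffices c = 0 by simp [this]
  ext i
  rw [Finsupp.coe_zero, Pi.zero_apply]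
  refine eq_zero_of_forall_eval (k := k) fun χ => ?_
  have h' := congrArg (fun m => bM.repr m i) (h χ)
  rcases eq_or_ne (c i) 0 with h0 | h0
  · simp [h0]
  · simpa [Finsupp.sum, map_sum, Finsupp.single_apply, h0] using h'

variable [IsDomain B] {A : Type u} [CommRing A] [IsDomain A] [Algebra k A] [Algebra.FiniteType k A]

omit [IsAlgClosed k] [Algebra.FiniteType k B] [IsDomain B] [IsDomain A] [Algebra.FiniteType k A] in
/-- The points where a tensor takes values in a given subspace form a closed set. -/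
lemma exists_ideal_evalAt_mem (M : Submodule k A) (G : A ⊗[k] B) :
    ∃ I : Ideal B, ∀ χ : B →ₐ[k] k, evalAt A χ G ∈ M ↔ I ≤ RingHom.ker χ := by
  classical
  let G' := LinearMap.rTensor B M.mkQ G
  have hG' : ∀ χ, evalAt (A ⧸ M) χ G' = M.mkQ (evalAt A χ G) := by
    intro χ
    simp only [G']
    induction G using TensorProduct.induction_on with
    | zero => simp
    | tmul a b => simp
    | add x y hx hy => simp only [map_add, hx, hy]
  let bQ := Module.Free.chooseBasis k (A ⧸ M)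
  let c := TensorProduct.equivFinsuppOfBasisLeft bQ G'
  refine ⟨Ideal.span (Set.range c), fun χ => ?_⟩
  rw [← Submodule.Quotient.mk_eq_zero, ← Submodule.mkQ_apply, ← hG', Ideal.span_le,
    Set.range_subset_iff]
  have he : evalAt (A ⧸ M) χ G' = c.sum fun i b => χ b • bQ i := by
    conv_lhs => rw [← (TensorProduct.equivFinsuppOfBasisLeft bQ).symm_apply_apply G']
    rw [TensorProduct.equivFinsuppOfBasisLeft_symm_apply, map_finsuppSum]
    simp [c]
  rw [he]
  constructor
  · intro h i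
    have := congrArg (fun q => bQ.repr q i) h
    rcases eq_or_ne (c i) 0 with h0 | h0
    · simp [h0]
    · simpa [Finsupp.sum, map_sum, Finsupp.single_apply, h0] using this
  · intro h
    exact Finset.sum_eq_zero fun i _ => by
      dsimp only
      rw [show χ (c i) = 0 from h i, zero_smul]

lemma le_or_inv_le {x γ : WithZero (Multiplicative ℤ)} (hx : x ≠ 0) (hγ : γ ≠ 0) :
    x ≤ γ ∨ x⁻¹ ≤ WithZero.exp (-(WithZero.log γ + 1)) := by
  obtain ⟨a, rfl⟩ : ∃ a, x = WithZero.exp a := ⟨_, (WithZero.exp_log hx).symm⟩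
  obtain ⟨b, rfl⟩ : ∃ b, γ = WithZero.exp b := ⟨_, (WithZero.exp_log hγ).symm⟩
  rw [WithZero.log_exp, ← WithZero.exp_neg, WithZero.exp_le_exp, WithZero.exp_le_exp]
  omega

lemma not_inv_le {x : WithZero (Multiplicative ℤ)} (hx : x ≠ 0) :
    ¬ x⁻¹ ≤ WithZero.exp (-(WithZero.log x + 1)) := by
  obtain ⟨a, rfl⟩ : ∃ a, x = WithZero.exp a := ⟨_, (WithZero.exp_log hx).symm⟩
  rw [WithZero.log_exp, ← WithZero.exp_neg, WithZero.exp_le_exp]
  omega

omit [IsDomain A] [Algebra.FiniteType k A] in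
/-- A function whose sublevel sets are closed along a tensor and along its inverse is constant. -/
lemma le_of_closed_levels (v : A → WithZero (Multiplicative ℤ)) (G G₁ : A ⊗[k] B)
    (hclosed : ∀ (H : A ⊗[k] B) (γ : (WithZero (Multiplicative ℤ))ˣ), ∃ I : Ideal B,
      ∀ χ : B →ₐ[k] k, v (evalAt A χ H) ≤ γ ↔ I ≤ RingHom.ker χ)
    (hinv : ∀ χ, v (evalAt A χ G) * v (evalAt A χ G₁) = 1) (χ χ' : B →ₐ[k] k) :
    v (evalAt A χ G) ≤ v (evalAt A χ' G) := by
  have hne : ∀ ψ, v (evalAt A ψ G) ≠ 0 := fun ψ h => by simpa [h] using hinv ψ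
  by_contra hlt
  obtain ⟨I, hI⟩ := hclosed G (Units.mk0 _ (hne χ'))
  obtain ⟨I', hI'⟩ := hclosed G₁
    (Units.mk0 (WithZero.exp (-(WithZero.log (v (evalAt A χ' G)) + 1))) WithZero.exp_ne_zero)
  have hII : I * I' = ⊥ := by
    rw [eq_bot_iff]
    intro b hb
    rw [Ideal.mem_bot]
    refine eq_zero_of_forall_eval (k := k) fun ψ => ?_
    rcases le_or_inv_le (hne ψ) (hne χ') with h | h
    · exact RingHom.mem_ker.1 ((hI ψ).1 h (Ideal.mul_le_left (I := I) (J := I') hb))
    · rw [← eq_inv_of_mul_eq_one_right (hinv ψ)] at h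
      exact RingHom.mem_ker.1 ((hI' ψ).1 h (Ideal.mul_le_right (I := I) (J := I') hb))
  rcases Ideal.mul_eq_bot.1 hII with h | h
  · exact hlt ((hI χ).2 (h ▸ bot_le))
  · have h' := (hI' χ').2 (h ▸ bot_le)
    rw [eq_inv_of_mul_eq_one_right (hinv χ')] at h'
    exact not_inv_le (hne χ') h'

/-- **Rosenlicht**: a unit of `A ⊗ B` has proportional values at all points of `B`. -/
theorem exists_eval_eq_smul (F : (A ⊗[k] B)ˣ) (χ₀ χ : B →ₐ[k] k) :
    ∃ c : k, evalAt A χ (↑F : A ⊗[k] B) = c • evalAt A χ₀ (F : A ⊗[k] B) := by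
  classical
  obtain ⟨m, w, hk, hconst⟩ := exists_valuations_at_infinity (k := k) (A := A)
  let φ : (B →ₐ[k] k) → (A ⊗[k] B →ₐ[k] A) := fun χ =>
    (Algebra.TensorProduct.rid k k A).toAlgHom.comp (Algebra.TensorProduct.map (AlgHom.id k A) χ)
  have hφ : ∀ χ G, φ χ G = evalAt A χ G := by
    intro χ G
    induction G using TensorProduct.induction_on with
    | zero => simp
    | tmul a b => simp [φ, Algebra.smul_def, mul_comm]
    | add x y hx hy => rw [map_add, map_add, hx, hy]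
  let v : Fin m → A → WithZero (Multiplicative ℤ) :=
    fun j a => w j (algebraMap A (FractionRing A) a)
  let M : Fin m → (WithZero (Multiplicative ℤ))ˣ → Submodule k A := fun j γ =>
    { carrier := {a | v j a ≤ γ}
      zero_mem' := by simp [v]
      add_mem' := fun {a b} ha hb => by
        show v j (a + b) ≤ γ
        simp only [v, map_add]
        exact Valuation.map_add_le _ ha hb
      smul_mem' := fun c a ha => by
        show v j (c • a) ≤ γ
        rcases eq_or_ne c 0 with rfl | hc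
        · simp [v]
        · simpa [v, Algebra.smul_def, hk j c hc] using ha }
  -- the ideal of points where the value lies in `M j γ`
  have hclosed : ∀ (G : A ⊗[k] B) j (γ : (WithZero (Multiplicative ℤ))ˣ), ∃ I : Ideal B,
      ∀ χ : B →ₐ[k] k, v j (evalAt A χ G) ≤ γ ↔ I ≤ RingHom.ker χ :=
    fun G j γ => exists_ideal_evalAt_mem (M j γ) G
  have hne : ∀ χ j, v j (evalAt A χ (↑F : A ⊗[k] B)) ≠ 0 := fun χ j => by
    simp only [v, Valuation.ne_zero_iff]
    refine fun h => ((F.isUnit.map (φ χ)).ne_zero) ?_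
    rw [hφ]
    exact IsFractionRing.injective A (FractionRing A) (h.trans (map_zero _).symm)
  have hinv : ∀ χ j, v j (evalAt A χ (↑F : A ⊗[k] B)) * v j (evalAt A χ (↑F⁻¹ : A ⊗[k] B)) = 1 := by
    intro χ j
    simp only [v, ← map_mul, ← hφ, Units.mul_inv, map_one]
  have hle : ∀ χ χ' j, v j (evalAt A χ (↑F : A ⊗[k] B)) ≤ v j (evalAt A χ' (↑F : A ⊗[k] B)) :=
    fun χ χ' j => le_of_closed_levels (v j) (↑F) (↑F⁻¹) (fun G γ => hclosed G j γ)
      (fun ψ => hinv ψ j) χ χ'
  obtain ⟨u₀, hu₀⟩ : ∃ u : Aˣ, (u : A) = evalAt A χ₀ (↑F : A ⊗[k] B) :=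
    ⟨Units.map (φ χ₀).toRingHom.toMonoidHom F, hφ χ₀ _⟩
  have hscal : ∀ j, v j (evalAt A χ (↑F : A ⊗[k] B) * ↑u₀⁻¹) ≤ 1 := by
    intro j
    have h0 : v j (u₀ : A) * v j (↑u₀⁻¹ : A) = 1 := by
      simp only [v, ← map_mul, Units.mul_inv, map_one]
    calc v j (evalAt A χ (↑F : A ⊗[k] B) * ↑u₀⁻¹)
        = v j (evalAt A χ (↑F : A ⊗[k] B)) * v j (↑u₀⁻¹ : A) := by simp only [v, map_mul]
      _ ≤ v j (u₀ : A) * v j (↑u₀⁻¹ : A) := mul_le_mul_left (hu₀ ▸ hle χ χ₀ j) _
      _ = 1 := h0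
  obtain ⟨c, hc⟩ := hconst _ hscal
  refine ⟨c, ?_⟩
  rw [← hu₀, Algebra.smul_def, hc, mul_assoc, Units.inv_mul, mul_one]

/-- A unit of `A ⊗ B` is a product of units of `A` and `B`. -/
theorem exists_tmul_eq (F : (A ⊗[k] B)ˣ) (ψ : A →ₐ[k] k) (χ₀ : B →ₐ[k] k) :
    ∃ (a : Aˣ) (b : Bˣ), (F : A ⊗[k] B) = (a : A) ⊗ₜ[k] (b : B) := by
  classical
  let pB : A ⊗[k] B →ₐ[k] B :=
    (Algebra.TensorProduct.lid k B).toAlgHom.comp (Algebra.TensorProduct.map ψ (AlgHom.id k B))
  let pA : A ⊗[k] B →ₐ[k] A :=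
    (Algebra.TensorProduct.rid k k A).toAlgHom.comp (Algebra.TensorProduct.map (AlgHom.id k A) χ₀)
  have hpA : ∀ G, pA G = evalAt A χ₀ G := by
    intro G
    induction G using TensorProduct.induction_on with
    | zero => simp
    | tmul a b => simp [pA, Algebra.smul_def, mul_comm]
    | add x y hx hy => rw [map_add, map_add, hx, hy]
  have hpsi : ∀ (χ : B →ₐ[k] k) G, χ (pB G) = ψ (evalAt A χ G) := by
    intro χ G
    induction G using TensorProduct.induction_on with
    | zero => simp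
    | tmul a b => simp [pB, mul_comm]
    | add x y hx hy => simp only [map_add, hx, hy]
  let a : Aˣ := Units.map pA.toRingHom.toMonoidHom F
  let d : kˣ := Units.map ψ.toRingHom.toMonoidHom a
  let b : Bˣ := Units.map (algebraMap k B).toMonoidHom d⁻¹ * Units.map pB.toRingHom.toMonoidHom F
  refine ⟨a, b, sub_eq_zero.1 (eq_zero_of_forall_evalAt fun χ => ?_)⟩
  obtain ⟨c, hc⟩ := exists_eval_eq_smul F χ₀ χ
  rw [map_sub, evalAt_tmul, hc, sub_eq_zero]
  have : χ (b : B) = c := by
    show χ (algebraMap k B (↑d⁻¹ : k) * pB (F : A ⊗[k] B)) = c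
    rw [map_mul, AlgHom.commutes, hpsi, hc, map_smul, ← hpA, smul_eq_mul]
    show (↑d⁻¹ : k) * (c * (↑d : k)) = c
    rw [mul_left_comm, Units.inv_mul, mul_one]
  rw [this]
  show c • evalAt A χ₀ (F : A ⊗[k] B) = c • pA F
  rw [hpA]

end Groth.Agent.GrpScheme.Rosenlicht
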