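import Groth.Agent.GrpScheme.Rosenlicht.Scheme
import Groth.Agent.RedSub.Basic

/-!
# Units on a product of connected reduced schemes which are trivial on both axes
-/

set_option autoImplicit false
set_option backward.isDefEq.respectTransparency false

universe u

open CategoryTheory MonoidalCategory CartesianMonoidalCategory AlgebraicGeometry Limits
  TopologicalSpace Topology

namespace Groth.Agent.GrpScheme.Rosenlicht

/-- A property of closed points which is constant along irreducible components holds everywhere on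
a connected Jacobson space with finitely many components, as soon as it holds once. -/
lemma forall_of_component {X : Type*} [TopologicalSpace X] [ConnectedSpace X] [JacobsonSpace X]
    [NoetherianSpace X] (P : X → Prop) {a : X} (ha : a ∈ closedPoints X) (hPa : P a)
    (h : ∀ C ∈ irreducibleComponents X, ∀ x ∈ C, ∀ y ∈ C, x ∈ closedPoints X → y ∈ closedPoints X →
      P x → P y) : ∀ x ∈ closedPoints X, P x := by
  let S : Set (Set X) := {C ∈ irreducibleComponents X | ∀ x ∈ C, x ∈ closedPoints X → P x}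
  let S' : Set (Set X) := irreducibleComponents X \ S
  have hfin := NoetherianSpace.finite_irreducibleComponents (α := X)
  have hcl : ∀ T ⊆ irreducibleComponents X, IsClosed (⋃₀ T) := fun T hT => by
    rw [Set.sUnion_eq_biUnion]
    exact (hfin.subset hT).isClosed_biUnion fun C hC => isClosed_of_mem_irreducibleComponents C (hT hC)
  have hcover : ⋃₀ S ∪ ⋃₀ S' = Set.univ := by
    rw [← Set.sUnion_union, Set.union_sdiff_cancel (fun C hC => hC.1), sUnion_irreducibleComponents]
  have hdisj : Disjoint (⋃₀ S) (⋃₀ S') := by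
    rw [Set.disjoint_iff_inter_eq_empty]
    by_contra hne
    obtain ⟨z, ⟨hzS, hzS'⟩, hz⟩ := nonempty_inter_closedPoints (Set.nonempty_iff_ne_empty.2 hne)
      ((hcl S fun C hC => hC.1).inter (hcl S' fun C hC => hC.1)).isLocallyClosed
    obtain ⟨C, hC, hzC⟩ := hzS
    obtain ⟨C', hC', hzC'⟩ := hzS'
    exact hC'.2 ⟨hC'.1, fun y hy hyc => h C' hC'.1 z hzC' y hy hz hyc (hC.2 z hzC hz)⟩
  have hclopen : IsClopen (⋃₀ S) := by
    refine ⟨hcl S fun C hC => hC.1, ?_⟩
    rw [show ⋃₀ S = (⋃₀ S')ᶜ from (IsCompl.compl_eq (IsCompl.symm ⟨hdisj,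
      codisjoint_iff.2 hcover⟩)).symm]
    exact (hcl S' fun C hC => hC.1).isOpen_compl
  have haS : a ∈ ⋃₀ S := by
    obtain ⟨C, hC, haC⟩ := (sUnion_irreducibleComponents (X := X)).symm.subset (Set.mem_univ a)
    exact ⟨C, ⟨hC, fun y hy hyc => h C hC a haC y hy ha hyc hPa⟩, haC⟩
  have hS : ⋃₀ S = Set.univ := (isClopen_iff.1 hclopen).resolve_left (Set.nonempty_iff_ne_empty.1 ⟨a, haS⟩)
  intro x hx
  obtain ⟨C, hC, hxC⟩ := hS.symm.subset (Set.mem_univ x)
  exact hC.2 x hxC hx

variable {k : Type u} [Field k] [IsAlgClosed k]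

/-- The rectangle identity for the values of a unit. -/
lemma rect {X Y A B : Over (Spec (CommRingCat.of k))} [IsIntegral A.left] [IsIntegral B.left]
    [LocallyOfFiniteType A.hom] [LocallyOfFiniteType B.hom] (i : A ⟶ X) (j : B ⟶ Y)
    (f : Γ((X ⊗ Y).left, ⊤)) (hf : IsUnit f) (a a' : 𝟙_ _ ⟶ A) (b b' : 𝟙_ _ ⟶ B) :
    pb (lift (a' ≫ i) (b' ≫ j)) f * pb (lift (a ≫ i) (b ≫ j)) f =
      pb (lift (a' ≫ i) (b ≫ j)) f * pb (lift (a ≫ i) (b' ≫ j)) f := by
  set f' := pb (i ⊗ₘ j) f
  have hv : ∀ (s : 𝟙_ _ ⟶ A) (t : 𝟙_ _ ⟶ B), pb (lift (s ≫ i) (t ≫ j)) f = pb (lift s t) f' := by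
    intro s t
    rw [← pb_comp, lift_map]
  obtain ⟨u, -, hu, hfu⟩ := exists_units_mul_eq A B a b f' (hf.map _)
  have key : ∀ (s : 𝟙_ _ ⟶ A) (t : 𝟙_ _ ⟶ B), pb (lift s t) f' =
      pb (lift s b) f' * (pb (lift a t) f' * Ring.inverse (pb (lift a b) f')) := by
    intro s t
    have e1 : s ≫ sliceR A b = lift s b := by
      apply CartesianMonoidalCategory.hom_ext <;>
        simp [sliceR, toUnit_unique (s ≫ toUnit A) (𝟙 _)]
    have e2 : t ≫ sliceL B a = lift a t := by
      apply CartesianMonoidalCategory.hom_ext <;>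
        simp [sliceL, toUnit_unique (t ≫ toUnit B) (𝟙 _)]
    conv_lhs => rw [hfu]
    rw [map_mul, ← pb_comp (lift s t) (fst A B), ← pb_comp (lift s t) (snd A B), lift_fst,
      lift_snd, hu, map_mul, ← pb_comp s (sliceR A b), ← pb_comp t (sliceL B a),
      ← pb_comp t (toUnit B), e1, e2, toUnit_unique (t ≫ toUnit B) (𝟙 _), pb_id]
  rw [hv, hv, hv, hv, key a' b', mul_assoc, mul_assoc, Ring.inverse_mul_cancel _ (hf.map (pb (i ⊗ₘ j)) |>.map _),
    mul_one]

/-- Points of an irreducible component lift to the reduced component. -/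
lemma exists_component (X : Over (Spec (CommRingCat.of k))) [LocallyOfFiniteType X.hom] {C : Set X.left}
    (hC : C ∈ irreducibleComponents X.left) :
    ∃ (A : Over (Spec (CommRingCat.of k))) (_ : IsIntegral A.left) (_ : LocallyOfFiniteType A.hom)
      (i : A ⟶ X), ∀ x : 𝟙_ _ ⟶ X, x.left (IsLocalRing.closedPoint k) ∈ C → ∃ a, a ≫ i = x := by
  let Z : Closeds X.left := ⟨C, isClosed_of_mem_irreducibleComponents C hC⟩
  let ι := (Scheme.IdealSheafData.vanishingIdeal Z).subschemeι
  let A : Over (Spec (CommRingCat.of k)) := Over.mk (ι ≫ X.hom)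
  have hr : Set.range ι = C := (Scheme.IdealSheafData.range_subschemeι _).trans
    (Scheme.IdealSheafData.coe_support_vanishingIdeal _)
  have : IrreducibleSpace A.left := by
    rw [show A.left = (Scheme.IdealSheafData.vanishingIdeal Z).subscheme from rfl,
      ι.isClosedEmbedding.isEmbedding.toHomeomorph.irreducibleSpace_iff,
      ← isIrreducible_iff_irreducibleSpace, hr]
    exact hC.1
  have : IsReduced A.left := RedSub.isReduced_vanishingIdeal Z
  have : LocallyOfFiniteType A.hom := inferInstanceAs (LocallyOfFiniteType (ι ≫ X.hom))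
  refine ⟨A, isIntegral_of_irreducibleSpace_of_isReduced _, ‹_›, Over.homMk ι rfl, fun x hx => ?_⟩
  obtain ⟨p, hp⟩ := hr.symm.subset hx
  have hxc : IsClosed ({x.left (IsLocalRing.closedPoint k)} : Set X.left) :=
    ((pointEquivClosedPoint X.hom) ⟨x.left, Over.w x⟩).2
  have hpc : IsClosed ({p} : Set A.left) := by
    have : ({p} : Set A.left) = ι ⁻¹' {x.left (IsLocalRing.closedPoint k)} := by
      ext q
      exact ⟨fun h => (h : q = p) ▸ hp, fun h => ι.isClosedEmbedding.injective (h.trans hp.symm)⟩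
    rw [this]
    exact hxc.preimage ι.continuous
  refine ⟨Over.homMk (pointOfClosedPoint A.hom p hpc) (pointOfClosedPoint_comp A.hom p hpc), ?_⟩
  apply Over.OverMorphism.ext
  refine ext_of_apply_closedPoint_eq X.hom
    ((Category.assoc _ _ _).trans (pointOfClosedPoint_comp A.hom p hpc)) (Over.w x) ?_
  show ι (pointOfClosedPoint A.hom p hpc (IsLocalRing.closedPoint k)) = _
  rw [pointOfClosedPoint_apply A.hom p hpc]
  exact hp

/-- A unit on a product of connected reduced schemes of finite type which is trivial on both axes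
is trivial. -/
theorem eq_one_of_axes (X Y : Over (Spec (CommRingCat.of k))) [IsReduced X.left] [IsReduced Y.left]
    [ConnectedSpace X.left] [ConnectedSpace Y.left] [LocallyOfFiniteType X.hom] [QuasiCompact X.hom]
    [LocallyOfFiniteType Y.hom] [QuasiCompact Y.hom] (x₀ : 𝟙_ _ ⟶ X) (y₀ : 𝟙_ _ ⟶ Y)
    (f : Γ((X ⊗ Y).left, ⊤)) (hf : IsUnit f) (hR : pb (sliceR X y₀) f = 1)
    (hL : pb (sliceL Y x₀) f = 1) : f = 1 := by
  have : LocallyOfFiniteType (X ⊗ Y).hom :=
    inferInstanceAs (LocallyOfFiniteType (pullback.fst X.hom Y.hom ≫ X.hom))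
  have : JacobsonSpace X.left := LocallyOfFiniteType.jacobsonSpace X.hom
  have : JacobsonSpace Y.left := LocallyOfFiniteType.jacobsonSpace Y.hom
  have : JacobsonSpace (X ⊗ Y).left := LocallyOfFiniteType.jacobsonSpace (X ⊗ Y).hom
  have : IsLocallyNoetherian X.left := LocallyOfFiniteType.isLocallyNoetherian X.hom
  have : IsLocallyNoetherian Y.left := LocallyOfFiniteType.isLocallyNoetherian Y.hom
  have : CompactSpace X.left := QuasiCompact.compactSpace_of_compactSpace X.hom
  have : CompactSpace Y.left := QuasiCompact.compactSpace_of_compactSpace Y.hom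
  have : IsNoetherian X.left := { }
  have : IsNoetherian Y.left := { }
  let V : (𝟙_ _ ⟶ X) → (𝟙_ _ ⟶ Y) → Prop := fun x y => pb (lift x y) f = 1
  have hV₁ : ∀ x, V x y₀ := fun x => by
    show pb (lift x y₀) f = 1
    rw [show lift x y₀ = x ≫ sliceR X y₀ by
      apply CartesianMonoidalCategory.hom_ext <;> simp [sliceR, toUnit_unique (x ≫ toUnit X) (𝟙 _)],
      pb_comp, hR, map_one]
  have hV₂ : ∀ y, V x₀ y := fun y => by
    show pb (lift x₀ y) f = 1
    rw [show lift x₀ y = y ≫ sliceL Y x₀ by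
      apply CartesianMonoidalCategory.hom_ext <;> simp [sliceL, toUnit_unique (y ≫ toUnit Y) (𝟙 _)],
      pb_comp, hL, map_one]
  have hptX : ∀ x ∈ closedPoints X.left,
      ∃ p : 𝟙_ _ ⟶ X, p.left (IsLocalRing.closedPoint k) = x := fun x hx =>
    ⟨Over.homMk (pointOfClosedPoint X.hom x hx) (pointOfClosedPoint_comp X.hom x hx),
      pointOfClosedPoint_apply X.hom x hx _⟩
  have hptY : ∀ x ∈ closedPoints Y.left,
      ∃ p : 𝟙_ _ ⟶ Y, p.left (IsLocalRing.closedPoint k) = x := fun x hx =>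
    ⟨Over.homMk (pointOfClosedPoint Y.hom x hx) (pointOfClosedPoint_comp Y.hom x hx),
      pointOfClosedPoint_apply Y.hom x hx _⟩
  have hclX : ∀ p : 𝟙_ _ ⟶ X, p.left (IsLocalRing.closedPoint k) ∈ closedPoints X.left := fun p =>
    ((pointEquivClosedPoint X.hom) ⟨p.left, Over.w p⟩).2
  have hclY : ∀ p : 𝟙_ _ ⟶ Y, p.left (IsLocalRing.closedPoint k) ∈ closedPoints Y.left := fun p =>
    ((pointEquivClosedPoint Y.hom) ⟨p.left, Over.w p⟩).2
  have hall : ∀ x y, V x y := by
    intro x y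
    refine forall_of_component (fun q => ∀ y : 𝟙_ _ ⟶ Y, y.left (IsLocalRing.closedPoint k) = q →
      ∀ x, V x y) (hclY y₀) ?_ ?_ _ (hclY y) y rfl x
    · intro y' hy' x'
      rw [show y' = y₀ from Over.OverMorphism.ext
        (ext_of_apply_closedPoint_eq Y.hom (Over.w y') (Over.w y₀) hy')]
      exact hV₁ x'
    intro C hC q hq q' hq' hqc hq'c hP y' hy' x'
    obtain ⟨p, hp⟩ := hptY q hqc
    obtain ⟨B, _, _, j, hj⟩ := exists_component Y hC
    obtain ⟨b, rfl⟩ := hj p (hp ▸ hq)
    obtain ⟨b', rfl⟩ := hj y' (hy' ▸ hq')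
    refine forall_of_component (fun s => ∀ x : 𝟙_ _ ⟶ X, x.left (IsLocalRing.closedPoint k) = s →
      V x (b' ≫ j)) (hclX x₀) ?_ ?_ _ (hclX x') x' rfl
    · intro x hx
      rw [show x = x₀ from Over.OverMorphism.ext
        (ext_of_apply_closedPoint_eq X.hom (Over.w x) (Over.w x₀) hx)]
      exact hV₂ _
    intro D hD s hs s' hs' hsc hs'c hR' x hx
    obtain ⟨r, hr⟩ := hptX s hsc
    obtain ⟨A, _, _, i, hi⟩ := exists_component X hD
    obtain ⟨a, rfl⟩ := hi r (hr ▸ hs)
    obtain ⟨a', rfl⟩ := hi x (hx ▸ hs')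
    have hrect := rect i j f hf a a' b b'
    have h1 : V (a ≫ i) (b ≫ j) := hP _ hp _
    have h2 : V (a' ≫ i) (b ≫ j) := hP _ hp _
    have h3 : V (a ≫ i) (b' ≫ j) := hR' _ hr
    simp only [V] at h1 h2 h3 ⊢
    rwa [h1, h2, h3, mul_one, mul_one] at hrect
  have hred : IsReduced (X ⊗ Y).left := by
    have := FBase.BC.geometricallyReduced_of_isReduced_of_perfectField X.hom
    exact FBase.BC.isReduced_pullback X.hom Y.hom
  rw [← sub_eq_zero, ← basicOpen_eq_bot_iff]
  by_contra hne
  obtain ⟨z, hz, hzc⟩ := nonempty_inter_closedPoints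
    (Z := (((X ⊗ Y).left.basicOpen (f - 1) : (X ⊗ Y).left.Opens) : Set (X ⊗ Y).left))
    (Set.nonempty_iff_ne_empty.2 fun h => hne (Opens.ext h))
    ((X ⊗ Y).left.basicOpen (f - 1)).2.isLocallyClosed
  let p : 𝟙_ _ ⟶ X ⊗ Y :=
    Over.homMk (pointOfClosedPoint (X ⊗ Y).hom z hzc) (pointOfClosedPoint_comp (X ⊗ Y).hom z hzc)
  have hp : pb p (f - 1) = 0 := by
    have := hall (p ≫ fst X Y) (p ≫ snd X Y)
    simp only [V] at this
    rw [← comp_lift, lift_fst_snd, Category.comp_id] at this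
    rw [map_sub, map_one, this, sub_self]
  have hmem : IsLocalRing.closedPoint k ∈ p.left ⁻¹ᵁ (X ⊗ Y).left.basicOpen (f - 1) := by
    show p.left (IsLocalRing.closedPoint k) ∈ (X ⊗ Y).left.basicOpen (f - 1)
    rw [show p.left (IsLocalRing.closedPoint k) = z from pointOfClosedPoint_apply (X ⊗ Y).hom z hzc _]
    exact hz
  rw [Scheme.preimage_basicOpen] at hmem
  change IsLocalRing.closedPoint k ∈ (𝟙_ (Over (Spec (CommRingCat.of k)))).left.basicOpen (pb p (f - 1)) at hmem
  rw [hp, Scheme.basicOpen_zero] at hmem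
  exact hmem

end Groth.Agent.GrpScheme.Rosenlicht
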