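import Groth.Agent.GrpScheme.Rosenlicht.Scheme
import Groth.Agent.GrpScheme.HomFlat
import Groth.Agent.AbVarLib.Basics
import Groth.Prelude.Def_AlgGrp

/-!
# Units on algebraic groups and the lattice of units modulo constants
-/

set_option autoImplicit false
set_option backward.isDefEq.respectTransparency false

universe u

open CategoryTheory MonoidalCategory CartesianMonoidalCategory MonObj GrpObj AlgebraicGeometry Limits
  TopologicalSpace

namespace Groth.Agent.GrpScheme.Rosenlicht

variable {k : Type u} [Field k] [IsAlgClosed k]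

lemma isIntegral_group (G : Over (Spec (CommRingCat.of k))) [GrpObj G] [Smooth G.hom]
    [ConnectedSpace G.left] : IsIntegral G.left := by
  have := Groth.Agent.AbVarLib.Basics.irreducibleSpace_of_connectedSpace G
  have : IsReduced G.left := HomFlat.isReduced_of_smooth G.hom
  exact isIntegral_of_irreducibleSpace_of_isReduced _

/-- Units of an irreducible algebraic group with value one at the unit are characters. -/
theorem mul_eq_of_unit (G : Over (Spec (CommRingCat.of k))) [GrpObj G] [IsIntegral G.left]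
    [LocallyOfFiniteType G.hom] (f : Γ(G.left, ⊤)) (hf : IsUnit f) (he : pb η[G] f = 1) :
    pb μ[G] f = pb (fst G G) f * pb (snd G G) f := by
  obtain ⟨P, hP⟩ : IsUnit (pb (fst G G) f * pb (snd G G) f) := (hf.map _).mul (hf.map _)
  have h1 : sliceR G η[G] ≫ μ[G] = 𝟙 G := by
    rw [sliceR, ← Hom.mul_def, ← Hom.one_def, _root_.mul_one]
  have h2 : sliceL G η[G] ≫ μ[G] = 𝟙 G := by
    rw [sliceL, ← Hom.mul_def, ← Hom.one_def, _root_.one_mul]
  have e : pb μ[G] f * ↑P⁻¹ = 1 := by
    refine eq_one_of_slices G G η[G] η[G] _ ((hf.map _).mul P⁻¹.isUnit) ?_ ?_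
    · have : pb (sliceR G η[G]) (P : Γ((G ⊗ G).left, ⊤)) = f := by
        rw [hP, pb_sliceR_mul, pb_comp, he, map_one, _root_.mul_one]
      have h := congrArg (pb (sliceR G η[G])) P.mul_inv
      rw [map_mul, map_one, this] at h
      rw [map_mul, ← pb_comp, h1, pb_id, h]
    · have : pb (sliceL G η[G]) (P : Γ((G ⊗ G).left, ⊤)) = f := by
        rw [hP, pb_sliceL_mul, pb_comp, he, map_one, _root_.one_mul]
      have h := congrArg (pb (sliceL G η[G])) P.mul_inv
      rw [map_mul, map_one, this] at h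
      rw [map_mul, ← pb_comp, h2, pb_id, h]
  calc pb μ[G] f = (pb μ[G] f * ↑P⁻¹) * (P : Γ((G ⊗ G).left, ⊤)) := by
        rw [_root_.mul_assoc, Units.inv_mul, _root_.mul_one]
    _ = _ := by rw [e, _root_.one_mul, hP]

/-- Units on the product of a group and a variety. -/
theorem exists_character_mul (G X : Over (Spec (CommRingCat.of k))) [GrpObj G] [IsIntegral G.left]
    [LocallyOfFiniteType G.hom] [IsIntegral X.left] [LocallyOfFiniteType X.hom]
    (f : Γ((G ⊗ X).left, ⊤)) (hf : IsUnit f) :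
    ∃ (χ : Γ(G.left, ⊤)) (u : Γ(X.left, ⊤)), IsUnit χ ∧ pb η[G] χ = 1 ∧
      pb μ[G] χ = pb (fst G G) χ * pb (snd G G) χ ∧ IsUnit u ∧
      f = pb (fst G X) χ * pb (snd G X) u := by
  obtain ⟨x⟩ := exists_point X
  obtain ⟨u, hu, -, hfu⟩ := exists_units_mul_eq G X η[G] x f hf
  set g := pb (sliceR G x) f
  have hg : IsUnit g := hf.map _
  obtain ⟨c, hc⟩ := exists_cst (pb η[G] g)
  have hc0 : c ≠ 0 := by
    have : Nontrivial Γ((𝟙_ (Over (Spec (CommRingCat.of k)))).left, ⊤) :=
      (ConcreteCategory.bijective_of_isIso (Scheme.ΓSpecIso (CommRingCat.of k)).inv).injective.nontrivial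
    rintro rfl
    rw [map_zero] at hc
    exact not_isUnit_zero (hc ▸ hg.map (pb η[G]))
  have hcu : IsUnit (cst G c⁻¹) := (isUnit_iff_ne_zero.2 (inv_ne_zero hc0)).map _
  have heχ : pb η[G] (g * cst G c⁻¹) = 1 := by
    rw [map_mul, ← hc, pb_cst, ← map_mul, mul_inv_cancel₀ hc0, map_one]
  refine ⟨g * cst G c⁻¹, u * cst X c, hg.mul hcu, heχ, mul_eq_of_unit G _ (hg.mul hcu) heχ,
    hu.mul ((isUnit_iff_ne_zero.2 hc0).map _), ?_⟩
  rw [map_mul, map_mul, pb_cst, pb_cst, _root_.mul_mul_mul_comm, ← map_mul (cst (G ⊗ X)),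
    inv_mul_cancel₀ hc0, map_one, _root_.mul_one]
  exact hfu

/-- Units of a variety modulo constants form a lattice. -/
theorem exists_units_lattice (X : Over (Spec (CommRingCat.of k))) [IsIntegral X.left]
    [LocallyOfFiniteType X.hom] :
    ∃ (n : ℕ) (v : (Γ(X.left, ⊤))ˣ →* Multiplicative (Fin n → ℤ)), Function.Surjective v ∧
      v.ker = (Units.map (cst X : k →* Γ(X.left, ⊤))).range := by
  classical
  obtain ⟨_, ⟨U, hU, rfl⟩, hxU, -⟩ := X.left.isBasis_affineOpens.exists_subset_of_mem_open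
    (Set.mem_univ (Classical.arbitrary X.left)) isOpen_univ
  let X' := openObj X U
  let i := openIncl X U
  have : IsAffine X'.left := hU
  have : Nonempty X'.left := ⟨⟨_, hxU⟩⟩
  have : IsIntegral X'.left := isIntegral_of_isOpenImmersion i.left
  let : Algebra k Γ(X'.left, ⊤) := (cst X').toAlgebra
  have : Algebra.FiniteType k Γ(X'.left, ⊤) := finiteType_cst X'
  obtain ⟨m, w, hw, hconst⟩ := exists_valuations_at_infinity (k := k) (A := Γ(X'.left, ⊤))
  let K := FractionRing Γ(X'.left, ⊤)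
  let r : Γ(X.left, ⊤) →+* K := (algebraMap Γ(X'.left, ⊤) K).comp (pb i)
  have hr : Function.Injective r := (IsFractionRing.injective _ K).comp (injective_pb i)
  have hne : ∀ (j : Fin m) (u : (Γ(X.left, ⊤))ˣ), w j (r u) ≠ 0 := fun j u =>
    (Valuation.ne_zero_iff _).2 fun h => u.ne_zero (hr (h.trans (map_zero r).symm))
  let φ : Additive (Γ(X.left, ⊤))ˣ →+ (Fin m → ℤ) :=
    AddMonoidHom.mk' (fun u j => WithZero.log (w j (r (Additive.toMul u : (Γ(X.left, ⊤))ˣ))))
      fun a b => by
        funext j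
        rw [toMul_add, Units.val_mul, map_mul, map_mul, WithZero.log_mul (hne j _) (hne j _)]
        rfl
  let N : Submodule ℤ (Fin m → ℤ) := LinearMap.range φ.toIntLinearMap
  let e := (Module.finBasis ℤ N).equivFun
  let v' : Additive (Γ(X.left, ⊤))ˣ →+ (Fin (Module.finrank ℤ N) → ℤ) :=
    (e.toLinearMap ∘ₗ φ.toIntLinearMap.rangeRestrict).toAddMonoidHom
  refine ⟨Module.finrank ℤ N, AddMonoidHom.toMultiplicativeRight v', ?_, ?_⟩
  · intro z
    obtain ⟨u, hu⟩ := (e.surjective.comp φ.toIntLinearMap.surjective_rangeRestrict) z.toAdd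
    exact ⟨Additive.toMul u, congrArg Multiplicative.ofAdd hu⟩
  ext u
  have hker : u ∈ (AddMonoidHom.toMultiplicativeRight v').ker ↔ ∀ j, w j (r u) = 1 := by
    show Multiplicative.ofAdd (v' (Additive.ofMul u)) = 1 ↔ _
    rw [ofAdd_eq_one]
    show e (φ.toIntLinearMap.rangeRestrict (Additive.ofMul u)) = 0 ↔ _
    rw [LinearEquiv.map_eq_zero_iff, Subtype.ext_iff]
    show φ (Additive.ofMul u) = 0 ↔ _
    refine ⟨fun h j => ?_, fun h => funext fun j => ?_⟩
    · have : WithZero.log (w j (r u)) = 0 := congrFun h j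
      rw [← WithZero.exp_log (hne j u), this, WithZero.exp_zero]
    · show WithZero.log (w j (r u)) = 0
      rw [h j, WithZero.log_one]
  rw [hker, MonoidHom.mem_range]
  constructor
  · intro h
    obtain ⟨c, hc⟩ := hconst (pb i u) fun j => (h j).le
    have hcu : cst X c = (u : Γ(X.left, ⊤)) := injective_pb i ((pb_cst i c).trans hc)
    have hc0 : c ≠ 0 := fun h0 => u.ne_zero (by rw [← hcu, h0, map_zero])
    exact ⟨Units.mk0 c hc0, Units.ext hcu⟩
  · rintro ⟨c, rfl⟩ j
    show w j (algebraMap _ K (pb i (cst X (c : k)))) = 1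
    rw [pb_cst]
    exact hw j _ c.ne_zero

end Groth.Agent.GrpScheme.Rosenlicht
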