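import Groth.Agent.GrpScheme.Rosenlicht.Tensor
import Groth.Agent.GrpScheme.QuasiAffine
import Groth.Agent.FBase.BC
import Mathlib.AlgebraicGeometry.AlgClosed.Basic

/-!
# Rosenlicht's unit theorems for varieties over an algebraically closed field
-/

set_option autoImplicit false
set_option backward.isDefEq.respectTransparency false

universe u

open CategoryTheory MonoidalCategory CartesianMonoidalCategory AlgebraicGeometry Limits Opposite
  TopologicalSpace

namespace Groth.Agent.GrpScheme.Rosenlicht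

variable {k : Type u} [Field k]

/-- Pullback of global functions. -/
noncomputable def pb {X Y : Over (Spec (CommRingCat.of k))} (p : X ⟶ Y) :
    Γ(Y.left, ⊤) →+* Γ(X.left, ⊤) :=
  p.left.appTop.hom

/-- Constants. -/
noncomputable def cst (X : Over (Spec (CommRingCat.of k))) : k →+* Γ(X.left, ⊤) :=
  ((Scheme.ΓSpecIso (CommRingCat.of k)).inv ≫ X.hom.appTop).hom

lemma pb_comp {X Y Z : Over (Spec (CommRingCat.of k))} (p : X ⟶ Y) (q : Y ⟶ Z) (f : Γ(Z.left, ⊤)) :
    pb (p ≫ q) f = pb p (pb q f) := by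
  show (p ≫ q).left.appTop f = _
  rw [Over.comp_left, Scheme.Hom.comp_appTop]
  rfl

lemma pb_id (X : Over (Spec (CommRingCat.of k))) (f : Γ(X.left, ⊤)) : pb (𝟙 X) f = f := by
  simp [pb]

lemma pb_cst {X Y : Over (Spec (CommRingCat.of k))} (p : X ⟶ Y) (c : k) :
    pb p (cst Y c) = cst X c := by
  have : Y.hom.appTop ≫ p.left.appTop = X.hom.appTop := by
    rw [← Scheme.Hom.comp_appTop, Over.w p]
  simp only [pb, cst, CommRingCat.hom_comp, RingHom.comp_apply, ← this]

lemma exists_cst (f : Γ((𝟙_ (Over (Spec (CommRingCat.of k)))).left, ⊤)) :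
    ∃ c : k, cst (𝟙_ _) c = f := by
  refine ⟨(Scheme.ΓSpecIso (CommRingCat.of k)).hom f, ?_⟩
  show (((Scheme.ΓSpecIso (CommRingCat.of k)).hom ≫ (Scheme.ΓSpecIso (CommRingCat.of k)).inv ≫
    Scheme.Hom.appTop (𝟙 (Spec (CommRingCat.of k)))) f) = f
  simp

/-- An open subobject. -/
noncomputable def openObj (X : Over (Spec (CommRingCat.of k))) (U : X.left.Opens) :
    Over (Spec (CommRingCat.of k)) :=
  Over.mk (U.ι ≫ X.hom)

/-- The inclusion of an open subobject. -/
noncomputable def openIncl (X : Over (Spec (CommRingCat.of k))) (U : X.left.Opens) : openObj X U ⟶ X :=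
  Over.homMk U.ι rfl

instance (X : Over (Spec (CommRingCat.of k))) (U : X.left.Opens) :
    IsOpenImmersion (openIncl X U).left :=
  inferInstanceAs (IsOpenImmersion U.ι)

instance (X : Over (Spec (CommRingCat.of k))) (U : X.left.Opens) [LocallyOfFiniteType X.hom] :
    LocallyOfFiniteType (openObj X U).hom :=
  inferInstanceAs (LocallyOfFiniteType (U.ι ≫ X.hom))

lemma exists_lift_point (X : Over (Spec (CommRingCat.of k))) (U : X.left.Opens)
    (x : 𝟙_ (Over (Spec (CommRingCat.of k))) ⟶ X) (hx : x.left (IsLocalRing.closedPoint k) ∈ U) :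
    ∃ y, y ≫ openIncl X U = x := by
  have : Set.range x.left ⊆ Set.range U.ι := by
    rintro _ ⟨p, rfl⟩
    rw [Scheme.Opens.range_ι, show p = IsLocalRing.closedPoint k from
      Subsingleton.elim (α := PrimeSpectrum k) _ _]
    exact hx
  exact ⟨Over.homMk (IsOpenImmersion.lift U.ι x.left this)
    (by rw [← Over.w x]; exact (IsOpenImmersion.lift_fac_assoc U.ι x.left this X.hom)),
    Over.OverMorphism.ext (IsOpenImmersion.lift_fac _ _ _)⟩

/-- Global functions on an integral scheme are determined by their restriction to a nonempty open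
subscheme. -/
lemma injective_pb {X Y : Over (Spec (CommRingCat.of k))} (j : X ⟶ Y) [IsOpenImmersion j.left]
    [IsIntegral Y.left] [Nonempty X.left] : Function.Injective (pb j) := by
  intro a b h
  have : Nonempty (j.left ''ᵁ ⊤ : Y.left.Opens) :=
    ⟨⟨_, Classical.arbitrary X.left, trivial, rfl⟩⟩
  apply map_injective_of_isIntegral (X := Y.left) (homOfLE (le_top : j.left ''ᵁ ⊤ ≤ ⊤))
  have he : IsIso (j.left.appLE (j.left ''ᵁ ⊤) ⊤ (j.left.preimage_image_eq ⊤).ge) := by
    rw [← Scheme.Hom.appIso_hom']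
    infer_instance
  apply (ConcreteCategory.bijective_of_isIso
    (j.left.appLE (j.left ''ᵁ ⊤) ⊤ (j.left.preimage_image_eq ⊤).ge)).injective
  rw [← CategoryTheory.comp_apply, ← CategoryTheory.comp_apply, Scheme.Hom.map_appLE,
    show j.left.appLE ⊤ ⊤ _ = j.left.appTop from j.left.appLE_eq_app]
  exact h

lemma exists_point [IsAlgClosed k] (X : Over (Spec (CommRingCat.of k))) [LocallyOfFiniteType X.hom]
    [Nonempty X.left] : Nonempty (𝟙_ (Over (Spec (CommRingCat.of k))) ⟶ X) := by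
  have : JacobsonSpace X.left := LocallyOfFiniteType.jacobsonSpace X.hom
  obtain ⟨x, -, hx⟩ := nonempty_inter_closedPoints (Z := (Set.univ : Set X.left)) Set.univ_nonempty
    isClosed_univ.isLocallyClosed
  exact ⟨Over.homMk (pointOfClosedPoint X.hom x hx) (pointOfClosedPoint_comp X.hom x hx)⟩

lemma finiteType_cst (X : Over (Spec (CommRingCat.of k))) [IsAffine X.left]
    [LocallyOfFiniteType X.hom] : (cst X).FiniteType := by
  have h := X.hom.finiteType_appLE (isAffineOpen_top _) (isAffineOpen_top X.left) le_rfl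
  rw [show X.hom.appLE ⊤ ⊤ le_rfl = X.hom.appTop from X.hom.appLE_eq_app] at h
  exact h.comp (RingHom.FiniteType.of_surjective _
    (ConcreteCategory.bijective_of_isIso (Scheme.ΓSpecIso (CommRingCat.of k)).inv).surjective)

variable [IsAlgClosed k]

lemma isIntegral_tensor (X Y : Over (Spec (CommRingCat.of k))) [IsIntegral X.left] [IsIntegral Y.left] :
    IsIntegral (X ⊗ Y).left := by
  have : GeometricallyIrreducible X.hom := FBase.BC.geometricallyIrreducible_of_isSepClosed X.hom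
  have : GeometricallyReduced X.hom := FBase.BC.geometricallyReduced_of_isReduced_of_perfectField X.hom
  have : IrreducibleSpace (X ⊗ Y).left := inferInstanceAs (IrreducibleSpace ↥(pullback X.hom Y.hom))
  have : IsReduced (X ⊗ Y).left := FBase.BC.isReduced_pullback X.hom Y.hom
  exact isIntegral_of_irreducibleSpace_of_isReduced _

/-- Units on a product of affine varieties split. -/
theorem exists_mul_eq_of_isAffine (X Y : Over (Spec (CommRingCat.of k))) [IsAffine X.left]
    [IsAffine Y.left] [IsIntegral X.left] [IsIntegral Y.left] [LocallyOfFiniteType X.hom]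
    [LocallyOfFiniteType Y.hom] (f : Γ((X ⊗ Y).left, ⊤)) (hf : IsUnit f) :
    ∃ (a : Γ(X.left, ⊤)) (b : Γ(Y.left, ⊤)), IsUnit a ∧ IsUnit b ∧
      f = pb (fst X Y) a * pb (snd X Y) b := by
  let : Algebra k Γ(X.left, ⊤) := (cst X).toAlgebra
  let : Algebra k Γ(Y.left, ⊤) := (cst Y).toAlgebra
  have : Algebra.FiniteType k Γ(X.left, ⊤) := finiteType_cst X
  have : Algebra.FiniteType k Γ(Y.left, ⊤) := finiteType_cst Y
  have hP := (QuasiAffine.isPushout_tensor X Y)
  have hP' : IsPushout (CommRingCat.ofHom (cst X)) (CommRingCat.ofHom (cst Y))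
      (fst X Y).left.appTop (snd X Y).left.appTop :=
    hP.of_iso (Scheme.ΓSpecIso (CommRingCat.of k)) (Iso.refl _) (Iso.refl _) (Iso.refl _)
      (by rw [Iso.refl_hom, Category.comp_id]; exact (Iso.hom_inv_id_assoc _ _).symm)
      (by rw [Iso.refl_hom, Category.comp_id]; exact (Iso.hom_inv_id_assoc _ _).symm)
      (by simp) (by simp)
  let e := ((CommRingCat.isPushout_tensorProduct k Γ(X.left, ⊤) Γ(Y.left, ⊤)).isoIsPushout _ _ hP')
  have he₁ : ∀ a, e.hom (a ⊗ₜ 1) = pb (fst X Y) a := fun a =>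
    congr($(IsPushout.inl_isoIsPushout_hom _ _
      (CommRingCat.isPushout_tensorProduct k Γ(X.left, ⊤) Γ(Y.left, ⊤)) hP') a)
  have he₂ : ∀ b, e.hom (1 ⊗ₜ b) = pb (snd X Y) b := fun b =>
    congr($(IsPushout.inr_isoIsPushout_hom _ _
      (CommRingCat.isPushout_tensorProduct k Γ(X.left, ⊤) Γ(Y.left, ⊤)) hP') b)
  obtain ⟨x⟩ := exists_point X
  obtain ⟨y⟩ := exists_point Y
  have key : ∀ (Z : Over (Spec (CommRingCat.of k))) (z : 𝟙_ _ ⟶ Z) (c : k),
      (Scheme.ΓSpecIso (CommRingCat.of k)).hom (pb z (cst Z c)) = c := by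
    intro Z z c
    rw [pb_cst]
    show ((Scheme.ΓSpecIso (CommRingCat.of k)).inv ≫ Scheme.Hom.appTop (𝟙 (Spec (CommRingCat.of k))) ≫
      (Scheme.ΓSpecIso (CommRingCat.of k)).hom) c = c
    simp
  let ψ : Γ(X.left, ⊤) →ₐ[k] k :=
    { ((Scheme.ΓSpecIso (CommRingCat.of k)).hom.hom.comp (pb x)) with commutes' := key X x }
  let χ : Γ(Y.left, ⊤) →ₐ[k] k :=
    { ((Scheme.ΓSpecIso (CommRingCat.of k)).hom.hom.comp (pb y)) with commutes' := key Y y }
  obtain ⟨a, b, hab⟩ := exists_tmul_eq (hf.map e.inv.hom).unit ψ χ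
  refine ⟨a, b, a.isUnit, b.isUnit, ?_⟩
  rw [← he₁, ← he₂, ← map_mul, Algebra.TensorProduct.tmul_mul_tmul, mul_one, one_mul, ← hab,
    IsUnit.unit_spec]
  exact congr($(e.inv_hom_id) f).symm

/-- The slice at a point of `Y`. -/
noncomputable def sliceR (X : Over (Spec (CommRingCat.of k))) {Y : Over (Spec (CommRingCat.of k))}
    (y : 𝟙_ _ ⟶ Y) : X ⟶ X ⊗ Y :=
  lift (𝟙 X) (toUnit X ≫ y)

/-- The slice at a point of `X`. -/
noncomputable def sliceL {X : Over (Spec (CommRingCat.of k))} (Y : Over (Spec (CommRingCat.of k)))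
    (x : 𝟙_ _ ⟶ X) : Y ⟶ X ⊗ Y :=
  lift (toUnit Y ≫ x) (𝟙 Y)

omit [IsAlgClosed k] in
lemma pb_sliceR_mul (X : Over (Spec (CommRingCat.of k))) {Y : Over (Spec (CommRingCat.of k))}
    (y : 𝟙_ _ ⟶ Y) (a : Γ(X.left, ⊤)) (b : Γ(Y.left, ⊤)) :
    pb (sliceR X y) (pb (fst X Y) a * pb (snd X Y) b) = a * pb (toUnit X ≫ y) b := by
  rw [map_mul, ← pb_comp, ← pb_comp, sliceR, lift_fst, lift_snd, pb_id]

omit [IsAlgClosed k] in
lemma pb_sliceL_mul {X : Over (Spec (CommRingCat.of k))} (Y : Over (Spec (CommRingCat.of k)))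
    (x : 𝟙_ _ ⟶ X) (a : Γ(X.left, ⊤)) (b : Γ(Y.left, ⊤)) :
    pb (sliceL Y x) (pb (fst X Y) a * pb (snd X Y) b) = pb (toUnit Y ≫ x) a * b := by
  rw [map_mul, ← pb_comp, ← pb_comp, sliceL, lift_fst, lift_snd, pb_id]

/-- A unit on a product of varieties which is trivial on both axes is trivial. -/
theorem eq_one_of_slices (X Y : Over (Spec (CommRingCat.of k))) [IsIntegral X.left] [IsIntegral Y.left]
    [LocallyOfFiniteType X.hom] [LocallyOfFiniteType Y.hom] (x : 𝟙_ _ ⟶ X) (y : 𝟙_ _ ⟶ Y)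
    (f : Γ((X ⊗ Y).left, ⊤)) (hf : IsUnit f) (hR : pb (sliceR X y) f = 1)
    (hL : pb (sliceL Y x) f = 1) : f = 1 := by
  obtain ⟨_, ⟨U, hU, rfl⟩, hxU, -⟩ := X.left.isBasis_affineOpens.exists_subset_of_mem_open
    (Set.mem_univ (x.left (IsLocalRing.closedPoint k))) isOpen_univ
  obtain ⟨_, ⟨V, hV, rfl⟩, hyV, -⟩ := Y.left.isBasis_affineOpens.exists_subset_of_mem_open
    (Set.mem_univ (y.left (IsLocalRing.closedPoint k))) isOpen_univ
  obtain ⟨x', hx'⟩ := exists_lift_point X U x hxU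
  obtain ⟨y', hy'⟩ := exists_lift_point Y V y hyV
  let X' := openObj X U
  let Y' := openObj Y V
  let i := openIncl X U
  let j := openIncl Y V
  have : IsAffine X'.left := hU
  have : IsAffine Y'.left := hV
  have : Nonempty X'.left := ⟨⟨_, hxU⟩⟩
  have : Nonempty Y'.left := ⟨⟨_, hyV⟩⟩
  have : IsIntegral X'.left := isIntegral_of_isOpenImmersion i.left
  have : IsIntegral Y'.left := isIntegral_of_isOpenImmersion j.left
  have := isIntegral_tensor X Y
  have := isIntegral_tensor X' Y'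
  obtain ⟨a, b, -, -, hab⟩ := exists_mul_eq_of_isAffine X' Y' (pb (i ⊗ₘ j) f) (hf.map _)
  have h1 : a * pb (toUnit X' ≫ y') b = 1 := by
    rw [← pb_sliceR_mul, ← hab, ← pb_comp]
    have : sliceR X' y' ≫ (i ⊗ₘ j) = i ≫ sliceR X y := by
      apply CartesianMonoidalCategory.hom_ext <;> simp [sliceR, i, j, hy', X']
    rw [this, pb_comp, hR, map_one]
  have h2 : pb (toUnit Y' ≫ x') a * b = 1 := by
    rw [← pb_sliceL_mul, ← hab, ← pb_comp]
    have : sliceL Y' x' ≫ (i ⊗ₘ j) = j ≫ sliceL Y x := by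
      apply CartesianMonoidalCategory.hom_ext <;> simp [sliceL, i, j, hx', Y']
    rw [this, pb_comp, hL, map_one]
  obtain ⟨c, hc⟩ := exists_cst (pb y' b)
  obtain ⟨d, hd⟩ := exists_cst (pb x' a)
  rw [pb_comp, ← hc, pb_cst] at h1
  rw [pb_comp, ← hd, pb_cst] at h2
  have h3 : d * c = 1 := by
    have := congrArg (pb x') h1
    rw [map_mul, ← hd, pb_cst, map_one, ← map_mul] at this
    have hI : IsIso (𝟙_ (Over (Spec (CommRingCat.of k)))).hom.appTop := by
      show IsIso (Scheme.Hom.appTop (𝟙 (Spec (CommRingCat.of k))))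
      rw [Scheme.Hom.id_appTop]; infer_instance
    exact ((ConcreteCategory.bijective_of_isIso ((Scheme.ΓSpecIso (CommRingCat.of k)).inv ≫
      (𝟙_ (Over (Spec (CommRingCat.of k)))).hom.appTop)).injective
        (this.trans (map_one (cst _)).symm))
  have hfone : pb (i ⊗ₘ j) f = 1 := by
    have e1 : a = cst X' d := by
      calc a = a * (cst X' c * cst X' d) := by rw [← map_mul, mul_comm c, h3, map_one, mul_one]
        _ = cst X' d := by rw [← mul_assoc, h1, one_mul]
    have e2 : b = cst Y' c := by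
      calc b = (cst Y' d * cst Y' c) * b := by rw [← map_mul, h3, map_one, one_mul]
        _ = cst Y' c := by rw [mul_comm (cst Y' d), mul_assoc, h2, mul_one]
    rw [hab, e1, e2, pb_cst, pb_cst, ← map_mul, h3, map_one]
  have : IsOpenImmersion (i ⊗ₘ j).left := isOpenImmersion_tensorHom i j
  exact injective_pb (i ⊗ₘ j) (hfone.trans (map_one _).symm)
where
  isOpenImmersion_tensorHom {A B C D : Over (Spec (CommRingCat.of k))} (a : A ⟶ C) (b : B ⟶ D)
      [IsOpenImmersion a.left] [IsOpenImmersion b.left] : IsOpenImmersion (a ⊗ₘ b).left := by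
    rw [tensorHom_def, Over.comp_left]
    have := Basic.whiskerRight_mem @IsOpenImmersion a B ‹_›
    have := Basic.whiskerLeft_mem @IsOpenImmersion b C ‹_›
    infer_instance

/-- **Rosenlicht**: units on a product of varieties split. -/
theorem exists_units_mul_eq (X Y : Over (Spec (CommRingCat.of k))) [IsIntegral X.left]
    [IsIntegral Y.left] [LocallyOfFiniteType X.hom] [LocallyOfFiniteType Y.hom]
    (x : 𝟙_ _ ⟶ X) (y : 𝟙_ _ ⟶ Y) (f : Γ((X ⊗ Y).left, ⊤)) (hf : IsUnit f) :
    ∃ (u : Γ(Y.left, ⊤)), IsUnit u ∧ u = pb (sliceL Y x) f * pb (toUnit Y) (Ring.inverse (pb (lift x y) f)) ∧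
      f = pb (fst X Y) (pb (sliceR X y) f) * pb (snd X Y) u := by
  set g := pb (sliceR X y) f
  have hg : IsUnit g := hf.map _
  have hlf : IsUnit (pb (lift x y) f) := hf.map _
  let u := pb (sliceL Y x) f * pb (toUnit Y) (Ring.inverse (pb (lift x y) f))
  have hu : IsUnit u := (hf.map _).mul (hlf.ringInverse.map _)
  refine ⟨u, hu, rfl, ?_⟩
  obtain ⟨P, hP⟩ : IsUnit (pb (fst X Y) g * pb (snd X Y) u) := (hg.map _).mul (hu.map _)
  have e : f * ↑P⁻¹ = 1 := by
    refine eq_one_of_slices X Y x y _ (hf.mul P⁻¹.isUnit) ?_ ?_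
    · suffices pb (sliceR X y) (P : Γ((X ⊗ Y).left, ⊤)) = g by
        show pb (sliceR X y) (f * ↑P⁻¹) = 1
        rw [map_mul, show pb (sliceR X y) f = g from rfl, ← this, ← map_mul, Units.mul_inv, map_one]
      rw [hP, pb_sliceR_mul, pb_comp]
      have : pb y u = 1 := by
        simp only [u, map_mul, ← pb_comp, toUnit_unique (y ≫ toUnit Y) (𝟙 _), pb_id]
        rw [show y ≫ sliceL Y x = lift x y by
          apply CartesianMonoidalCategory.hom_ext <;>
            simp [sliceL, toUnit_unique (y ≫ toUnit Y) (𝟙 _)]]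
        exact Ring.mul_inverse_cancel _ hlf
      rw [this, map_one, mul_one]
    · suffices pb (sliceL Y x) (P : Γ((X ⊗ Y).left, ⊤)) = pb (sliceL Y x) f by
        show pb (sliceL Y x) (f * ↑P⁻¹) = 1
        rw [map_mul, ← this, ← map_mul, Units.mul_inv, map_one]
      rw [hP, pb_sliceL_mul, pb_comp]
      have : pb x g = pb (lift x y) f := by
        rw [show g = pb (sliceR X y) f from rfl, ← pb_comp,
          show x ≫ sliceR X y = lift x y by
            apply CartesianMonoidalCategory.hom_ext <;>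
              simp [sliceR, toUnit_unique (x ≫ toUnit X) (𝟙 _)]]
      rw [this, show u = pb (sliceL Y x) f * _ from rfl, mul_left_comm, ← map_mul,
        Ring.mul_inverse_cancel _ hlf, map_one, mul_one]
  calc f = (f * ↑P⁻¹) * (P : Γ((X ⊗ Y).left, ⊤)) := by rw [mul_assoc, Units.inv_mul, mul_one]
    _ = _ := by rw [e, one_mul, hP]

end Groth.Agent.GrpScheme.Rosenlicht
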