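import Groth.Agent.RegLoc.KAExt
import Mathlib.RingTheory.NoetherNormalization
import Mathlib.RingTheory.Valuation.Discrete.Basic
import Mathlib.RingTheory.Valuation.ExtendToLocalization
import Mathlib.RingTheory.DedekindDomain.AdicValuation
import Mathlib.RingTheory.Ideal.MinimalPrime.Noetherian
import Mathlib.RingTheory.Polynomial.UniqueFactorization
import Mathlib.FieldTheory.Minpoly.IsIntegrallyClosed
import Mathlib.FieldTheory.IsAlgClosed.Basic
import Mathlib.Algebra.MvPolynomial.NoZeroDivisors

/-!
# Valuations at infinity of an affine domain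

For a domain `A` of finite type over an algebraically closed field `k` there are finitely many
`ℤ`-valued valuations on its fraction field, trivial on `k`, such that the only elements of `A`
without poles for all of them are the constants: extend the degree valuations of a Noether
normalization.
-/

set_option autoImplicit false

universe u

namespace Groth.Agent.GrpScheme.Rosenlicht

open IsDedekindDomain WithZero

/-- Finitely many valuations of a finite extension bound the integral closure of a DVR. -/
theorem exists_valuations {O L K : Type u} [CommRing O] [IsDomain O] [IsDiscreteValuationRing O]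
    [Field L] [Algebra O L] [IsFractionRing O L] [Field K] [Algebra O K] [Algebra L K]
    [IsScalarTower O L K] [FiniteDimensional L K] :
    ∃ (I : Type u) (_ : Finite I) (w : I → Valuation K (WithZero (Multiplicative ℤ))),
      (∀ i (o : O), w i (algebraMap O K o) ≤ 1) ∧ ∀ x, (∀ i, w i x ≤ 1) → IsIntegral O x := by
  let C := integralClosure O K
  have : IsFractionRing C K := integralClosure.isFractionRing_of_finite_extension L K
  have : IsIntegrallyClosed C := integralClosure.isIntegrallyClosedOfFiniteExtension L
  have : Ring.KrullDimLE 1 O := inferInstance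
  have : IsNoetherianRing C := RegLoc.isNoetherianRing_of_between (K := L) C
  have : Ring.DimensionLEOne C := inferInstance
  have : IsDedekindRing C :=
    { ‹IsNoetherianRing C›, ‹Ring.DimensionLEOne C›, ‹IsIntegrallyClosed C› with }
  have : IsDedekindDomain C := { }
  obtain ⟨π, hπ⟩ := IsDiscreteValuationRing.exists_irreducible O
  have hinj : Function.Injective (algebraMap O C) := fun a b h =>
    IsFractionRing.injective O L ((algebraMap L K).injective (by
      rw [← IsScalarTower.algebraMap_apply, ← IsScalarTower.algebraMap_apply]
      exact congrArg Subtype.val h))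
  let e : HeightOneSpectrum C → (Ideal.span {algebraMap O C π}).minimalPrimes := fun v =>
    ⟨v.asIdeal, by
      have hmax : v.asIdeal.IsMaximal := v.isMaximal
      have hc : (v.asIdeal.comap (algebraMap O C)).IsMaximal :=
        Ideal.isMaximal_comap_of_isIntegral_of_isMaximal v.asIdeal
      have hπv : algebraMap O C π ∈ v.asIdeal := by
        show π ∈ v.asIdeal.comap (algebraMap O C)
        rw [IsLocalRing.eq_maximalIdeal hc]
        exact hπ.not_isUnit
      refine ⟨⟨v.isPrime, (Ideal.span_singleton_le_iff_mem _).2 hπv⟩, ?_⟩
      rintro Q ⟨hQ, hπQ⟩ hle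
      have hQ0 : Q ≠ ⊥ := fun h => hπ.ne_zero (hinj (by
        rw [map_zero, ← Ideal.mem_bot, ← h]
        exact hπQ (Ideal.mem_span_singleton_self _)))
      exact ((Ring.DimensionLEOne.maximalOfPrime hQ0 hQ).eq_of_le v.isPrime.ne_top hle).ge⟩
  have : Finite (Ideal.span {algebraMap O C π}).minimalPrimes :=
    (Ideal.finite_minimalPrimes_of_isNoetherianRing C _).to_subtype
  have : Finite (HeightOneSpectrum C) := Finite.of_injective e fun v w h =>
    HeightOneSpectrum.ext (congrArg Subtype.val h)
  refine ⟨HeightOneSpectrum C, inferInstance, fun v => v.valuation K, fun v o => ?_, fun x hx => ?_⟩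
  · exact HeightOneSpectrum.valuation_le_one (K := K) v (algebraMap O C o)
  · obtain ⟨c, rfl⟩ := HeightOneSpectrum.mem_integers_of_valuation_le_one K x hx
    exact c.2

variable {k : Type u} [Field k] {n : ℕ}

/-- The degree in the `i`-th variable, as a valuation. -/
noncomputable def degVal (i : Fin n) :
    Valuation (MvPolynomial (Fin n) k) (WithZero (Multiplicative ℤ)) where
  toFun p := open Classical in if p = 0 then 0 else exp (MvPolynomial.degreeOf i p : ℤ)
  map_zero' := if_pos rfl
  map_one' := by simp [MvPolynomial.degreeOf_one]
  map_mul' p q := by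
    classical
    by_cases hp : p = 0
    · simp [hp]
    by_cases hq : q = 0
    · simp [hq]
    simp [hp, hq, MvPolynomial.degreeOf_mul_eq hp hq, exp_add]
  map_add_le_max' p q := by
    classical
    by_cases hp : p = 0
    · simp [hp]
    by_cases hq : q = 0
    · simp [hq]
    by_cases hpq : p + q = 0
    · simp [hpq]
    simp only [hp, hq, hpq, if_false, le_max_iff, exp_le_exp, Int.ofNat_le]
    exact le_max_iff.1 (MvPolynomial.degreeOf_add_le i p q)

lemma degVal_C {i : Fin n} {c : k} (hc : c ≠ 0) :
    degVal i (MvPolynomial.C c : MvPolynomial (Fin n) k) = 1 := by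
  classical
  show (if _ then _ else _) = _
  simp [hc, MvPolynomial.degreeOf_C]

/-- The degree valuation on the field of rational functions. -/
noncomputable def degValFrac (i : Fin n) :
    Valuation (FractionRing (MvPolynomial (Fin n) k)) (WithZero (Multiplicative ℤ)) :=
  (degVal (k := k) i).extendToLocalization (S := nonZeroDivisors (MvPolynomial (Fin n) k))
    (fun p hp h => by
      have hp0 : p ≠ 0 := nonZeroDivisors.ne_zero hp
      have h' : degVal i p = 0 := h
      classical
      change (if _ then _ else _) = _ at h'
      simp [hp0] at h') _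

lemma degValFrac_algebraMap (i : Fin n) (p : MvPolynomial (Fin n) k) :
    degValFrac (k := k) i (algebraMap (MvPolynomial (Fin n) k) _ p) = degVal i p :=
  Valuation.extendToLocalization_apply_map_apply _ _ _ _

instance (i : Fin n) :
    Nontrivial (MonoidWithZeroHom.valueGroup (.ofClass (degValFrac (k := k) i))) := by
  classical
  refine ⟨⟨⟨Units.mk0 (exp (1 : ℤ)) exp_ne_zero, ?_⟩, 1, ?_⟩⟩
  · refine MonoidWithZeroHom.mem_valueGroup _ ⟨algebraMap (MvPolynomial (Fin n) k) _ (MvPolynomial.X i), ?_⟩
    show degValFrac i _ = _
    rw [degValFrac_algebraMap]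
    show (if _ then _ else _) = _
    simp [MvPolynomial.X_ne_zero, MvPolynomial.degreeOf_X_self]
  · intro h
    have := congrArg (fun g => (g.1 : WithZero (Multiplicative ℤ))) h
    simp at this

variable {A : Type u} [CommRing A] [IsDomain A] [Algebra k A]

/-- **Valuations at infinity.** The elements without poles are algebraic over `k`. -/
theorem exists_valuations_at_infinity' [Algebra.FiniteType k A] :
    ∃ (m : ℕ) (w : Fin m → Valuation (FractionRing A) (WithZero (Multiplicative ℤ))),
      (∀ j (c : k), c ≠ 0 → w j (algebraMap A (FractionRing A) (algebraMap k A c)) = 1) ∧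
      ∀ a : A, (∀ j, w j (algebraMap A (FractionRing A) a) ≤ 1) →
        IsIntegral k a := by
  classical
  obtain ⟨s, g, hg, hfin⟩ := exists_finite_inj_algHom_of_fg k A
  let P := MvPolynomial (Fin s) k
  let L := FractionRing P
  let K := FractionRing A
  let := g.toRingHom.toAlgebra
  have : Module.Finite P A := hfin
  have : IsScalarTower k P A := IsScalarTower.of_algebraMap_eq fun x => (g.commutes x).symm
  have : FaithfulSMul P A := (faithfulSMul_iff_algebraMap_injective P A).mpr hg
  have : FaithfulSMul P K := (faithfulSMul_iff_algebraMap_injective P K).mpr (by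
    rw [IsScalarTower.algebraMap_eq P A K]
    exact (IsFractionRing.injective A K).comp hg)
  let : Algebra L K := FractionRing.liftAlgebra P K
  have : IsScalarTower P L K := FractionRing.isScalarTower_liftAlgebra P K
  have : FiniteDimensional L K := inferInstance
  have key : ∀ i : Fin s, ∃ (I : Type u) (_ : Finite I)
      (w : I → Valuation K (WithZero (Multiplicative ℤ))),
      (∀ j (z : L), degValFrac i z ≤ 1 → w j (algebraMap L K z) ≤ 1) ∧
      ∀ x, (∀ j, w j x ≤ 1) → ∀ m, degValFrac i ((minpoly L x).coeff m) ≤ 1 := by
    intro i
    let O := (degValFrac (k := k) i).valuationSubring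
    let : Algebra O K := ((algebraMap L K).comp O.subtype).toAlgebra
    have : IsScalarTower O L K := IsScalarTower.of_algebraMap_eq fun _ => rfl
    obtain ⟨I, hI, w, hw₁, hw₂⟩ := exists_valuations (O := O) (L := L) (K := K)
    refine ⟨I, hI, w, fun j z hz => hw₁ j ⟨z, hz⟩, fun x hx m => ?_⟩
    have hx' := hw₂ x hx
    rw [minpoly.isIntegrallyClosed_eq_field_fractions' L hx', Polynomial.coeff_map]
    exact ((minpoly O x).coeff m).2
  choose I hI w hw₁ hw₂ using key
  have : Finite (Σ i, I i) := inferInstance
  obtain ⟨m, ⟨e⟩⟩ := Finite.exists_equiv_fin (Σ i, I i)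
  refine ⟨m, fun j => w (e.symm j).1 (e.symm j).2, fun j c hc => ?_, fun a ha => ?_⟩
  · have h1 : ∀ c : k, c ≠ 0 →
        w (e.symm j).1 (e.symm j).2 (algebraMap A K (algebraMap k A c)) ≤ 1 := by
      intro c hc
      rw [IsScalarTower.algebraMap_apply k P A, ← IsScalarTower.algebraMap_apply P A K,
        IsScalarTower.algebraMap_apply P L K]
      refine hw₁ _ _ _ ?_
      rw [degValFrac_algebraMap]
      exact (degVal_C hc).le
    refine le_antisymm (h1 c hc) ?_
    have h2 := h1 c⁻¹ (inv_ne_zero hc)
    rw [← IsScalarTower.algebraMap_apply k A K, map_inv₀, map_inv₀,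
      IsScalarTower.algebraMap_apply k A K] at h2
    have hne : w (e.symm j).1 (e.symm j).2 (algebraMap A K (algebraMap k A c)) ≠ 0 := by
      rw [Valuation.ne_zero_iff]
      exact fun h => hc ((algebraMap k A).injective (by
        rw [map_zero]; exact IsFractionRing.injective A K (by rw [map_zero]; exact h)))
    exact (inv_le_one₀ (zero_lt_iff.2 hne)).1 h2
  · let x := algebraMap A K a
    have hP : IsIntegral P x := (Algebra.IsIntegral.isIntegral (R := P) a).algebraMap
    have hmin := minpoly.isIntegrallyClosed_eq_field_fractions' L hP
    have hcoef : ∀ m, ∃ c : k, (minpoly P x).coeff m = MvPolynomial.C c := by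
      intro m
      refine ⟨((minpoly P x).coeff m).coeff 0, ?_⟩
      set p := (minpoly P x).coeff m
      have hdeg : ∀ i, MvPolynomial.degreeOf i p = 0 := by
        intro i
        have := hw₂ i x (fun j => by
          have := ha (e ⟨i, j⟩)
          dsimp only at this
          rwa [Equiv.symm_apply_apply] at this) m
        rw [hmin, Polynomial.coeff_map, degValFrac_algebraMap] at this
        by_cases hp : p = 0
        · simp [hp]
        · change (if _ then _ else _) ≤ _ at this
          rw [if_neg hp] at this
          rw [← exp_zero, exp_le_exp] at this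
          simp only [p]; omega
      apply MvPolynomial.totalDegree_eq_zero_iff_eq_C.1
      rw [MvPolynomial.totalDegree_eq_zero_iff]
      intro d hd i
      have := MvPolynomial.le_degreeOf_of_mem_support i hd
      rw [hdeg i] at this
      omega
    have hmem : minpoly P x ∈ Polynomial.lifts (algebraMap k P) :=
      (Polynomial.lifts_iff_coeff_lifts _).2 fun m => by
        obtain ⟨c, hc⟩ := hcoef m
        exact ⟨c, hc.symm⟩
    obtain ⟨q, hq, -, hmonic⟩ :=
      Polynomial.lifts_and_degree_eq_and_monic hmem (minpoly.monic hP)
    refine ⟨q, hmonic, IsFractionRing.injective A K ?_⟩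
    rw [map_zero, ← minpoly.aeval P x, ← hq, Polynomial.aeval_map_algebraMap,
      ← Polynomial.aeval_def, Polynomial.aeval_algebraMap_apply]

/-- **Valuations at infinity**, over an algebraically closed field. -/
theorem exists_valuations_at_infinity [IsAlgClosed k] [Algebra.FiniteType k A] :
    ∃ (m : ℕ) (w : Fin m → Valuation (FractionRing A) (WithZero (Multiplicative ℤ))),
      (∀ j (c : k), c ≠ 0 → w j (algebraMap A (FractionRing A) (algebraMap k A c)) = 1) ∧
      ∀ a : A, (∀ j, w j (algebraMap A (FractionRing A) a) ≤ 1) →
        a ∈ Set.range (algebraMap k A) := by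
  obtain ⟨m, w, hw, hint⟩ := exists_valuations_at_infinity' (k := k) (A := A)
  refine ⟨m, w, hw, fun a ha => ?_⟩
  have hint := hint a ha
  have hirr := minpoly.irreducible hint
  have hdeg := IsAlgClosed.degree_eq_one_of_irreducible k hirr
  refine ⟨-(minpoly k a).coeff 0, ?_⟩
  have := minpoly.aeval k a
  rw [Polynomial.eq_X_add_C_of_degree_eq_one hdeg, (minpoly.monic hint).leadingCoeff] at this
  simp only [map_add, map_mul, map_one, _root_.one_mul, Polynomial.aeval_X, Polynomial.aeval_C] at this
  rw [map_neg]
  linear_combination -this

end Groth.Agent.GrpScheme.Rosenlicht
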